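import Groth.Prelude.Def_ExtPow2
import Groth.Prelude.Def_MeroSh
import Groth.Prelude.Def_FlatMod2
import Groth.Agent.DR15.ExtBaseChange
import Groth.Agent.EGA43.QcohFP
import Groth.Agent.QCohLoc.Basic
import Groth.Agent.Coherent.QcohLocal
import Groth.Agent.CohExch.ChartApps
import Groth.Agent.CAlgH3.LocFreeFactor

/-!
# Exterior powers of quasi-coherent modules exist

Sections over `W` are families of elements of the exterior powers of the stalks which are locally
sums of wedges of sections.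
-/

set_option autoImplicit false
set_option linter.style.haveILetI false
set_option backward.isDefEq.respectTransparency false

universe u

open CategoryTheory CategoryTheory.Limits AlgebraicGeometry TopologicalSpace Opposite
open Groth.Agent.Coherent Groth.Agent.PicLib

noncomputable section

namespace Groth.Agent.ExtPowEx28

variable {X : Scheme.{u}} (i : ℕ) (E : X.Modules)

/-- The value at a point. -/
abbrev Val (x : X) : Type u := ↥(⋀[X.presheaf.stalk x]^i (E.presheaf.stalk x))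

/-- The wedge of germs. -/
def wg {V : X.Opens} (x : X) (hx : x ∈ V) (e : Fin i → Γ(E, V)) : Val i E x :=
  exteriorPower.ιMulti _ i fun j => E.presheaf.germ V x hx (e j)

theorem wg_res {V W : X.Opens} (h : W ≤ V) (x : X) (hx : x ∈ W) (e : Fin i → Γ(E, V)) :
    wg i E x hx (fun j => resM E h (e j)) = wg i E x (h hx) e :=
  congrArg (exteriorPower.ιMulti _ i) (funext fun j => TopCat.Presheaf.germ_res_apply E.presheaf (homOfLE h) x hx (e j))

/-- Sums of wedges of sections. -/
def pre : TopCat.PrelocalPredicate (fun x : X => Val i E x) where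
  pred {V} f := ∃ (N : ℕ) (c : Fin N → Γ(X, V)) (e : Fin N → Fin i → Γ(E, V)),
    ∀ x : V, f x = ∑ k, X.presheaf.germ V x.1 x.2 (c k) • wg i E x.1 x.2 (e k)
  res {W V} φ f := by
    rintro ⟨N, c, e, h⟩
    refine ⟨N, fun k => X.presheaf.map φ.op (c k), fun k j => resM E φ.le (e k j), fun x => ?_⟩
    refine (h ⟨x.1, φ.le x.2⟩).trans (Finset.sum_congr rfl fun k _ => ?_)
    rw [wg_res]
    congr 1
    exact (TopCat.Presheaf.germ_res_apply X.presheaf φ x.1 x.2 (c k)).symm

theorem pre_zero (V : X.Opens) : (pre i E).pred (U := V) (0 : ∀ x : V, Val i E x.1) :=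
  ⟨0, fun k => k.elim0, fun k => k.elim0, fun _ => by simp⟩

theorem pre_add (V : X.Opens) (f g : ∀ x : V, Val i E x.1) (hf : (pre i E).pred f) (hg : (pre i E).pred g) :
    (pre i E).pred (f + g) := by
  obtain ⟨N, c, e, h⟩ := hf
  obtain ⟨M, c', e', h'⟩ := hg
  refine ⟨N + M, Fin.append c c', Fin.append e e', fun x => ?_⟩
  rw [Pi.add_apply, h x, h' x, Fin.sum_univ_add]
  simp only [Fin.append_left, Fin.append_right]

theorem pre_smul (V : X.Opens) (r : Γ(X, V)) (f : ∀ x : V, Val i E x.1) (hf : (pre i E).pred f) :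
    (pre i E).pred (fun x : V => X.presheaf.germ V x.1 x.2 r • f x) := by
  obtain ⟨N, c, e, h⟩ := hf
  exact ⟨N, fun k => r * c k, e, fun x => by simp only [h x, Finset.smul_sum, map_mul, mul_smul]⟩

/-- Locally sums of wedges. -/
abbrev locP : TopCat.LocalPredicate (fun x : X => Val i E x) := (pre i E).sheafify

instance : Mero.IsModPred (locP i E) where
  zero U := fun x => ⟨U, x.2, 𝟙 U, pre_zero i E U⟩
  add U f g hf hg := fun x => by
    obtain ⟨A, hA, iA, pA⟩ := hf x
    obtain ⟨B, hB, iB, pB⟩ := hg x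
    refine ⟨A ⊓ B, ⟨hA, hB⟩, Opens.infLELeft A B ≫ iA, ?_⟩
    exact pre_add i E _ _ _ ((pre i E).res (Opens.infLELeft A B) _ pA) ((pre i E).res (Opens.infLERight A B) _ pB)
  smul U r f hf := fun x => by
    obtain ⟨A, hA, iA, pA⟩ := hf x
    refine ⟨A, hA, iA, ?_⟩
    obtain ⟨N, c, e, h⟩ := pA
    refine ⟨N, fun k => X.presheaf.map iA.op r * c k, e, fun y => ?_⟩
    show X.presheaf.germ U y.1 (iA.le y.2) r • f ⟨y.1, iA.le y.2⟩ = _
    rw [show f ⟨y.1, iA.le y.2⟩ = _ from h y, Finset.smul_sum]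
    refine Finset.sum_congr rfl fun k _ => ?_
    rw [map_mul, mul_smul]
    congr 1
    exact (TopCat.Presheaf.germ_res_apply X.presheaf iA y.1 y.2 r).symm

/-- The exterior power. -/
def ext : X.Modules := Mero.modOf (locP i E)

/-- The germ of an element of the exterior power of sections. -/
def theta {U : X.Opens} (x : X) (hx : x ∈ U) :
    ↥(⋀[Γ(X, U)]^i (E.val.obj (op U))) →ₛₗ[(X.presheaf.germ U x hx).hom] Val i E x :=
  letI : Algebra Γ(X, U) (X.presheaf.stalk x) := (X.presheaf.germ U x hx).hom.toAlgebra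
  letI : Module Γ(X, U) (E.presheaf.stalk x) := Module.compHom _ (X.presheaf.germ U x hx).hom
  haveI : IsScalarTower Γ(X, U) (X.presheaf.stalk x) (E.presheaf.stalk x) :=
    IsScalarTower.of_algebraMap_smul fun _ _ => rfl
  letI : Module Γ(X, U) (Val i E x) := Module.compHom _ (X.presheaf.germ U x hx).hom
  haveI : IsScalarTower Γ(X, U) (X.presheaf.stalk x) (Val i E x) :=
    IsScalarTower.of_algebraMap_smul fun _ _ => rfl
  let φ : (E.val.obj (op U)) →ₗ[Γ(X, U)] E.presheaf.stalk x :=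
    { toFun := fun m => E.presheaf.germ U x hx m
      map_add' := map_add _
      map_smul' := QCohLoc.germ_smul' (M := E) hx }
  let ι : (E.presheaf.stalk x) [⋀^Fin i]→ₗ[Γ(X, U)] Val i E x :=
    { (exteriorPower.ιMulti (X.presheaf.stalk x) i).toMultilinearMap.restrictScalars Γ(X, U) with
      map_eq_zero_of_eq' := (exteriorPower.ιMulti (X.presheaf.stalk x) i).map_eq_zero_of_eq' }
  let g := exteriorPower.alternatingMapLinearEquiv (ι.compLinearMap φ)
  { toFun := g
    map_add' := map_add g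
    map_smul' := fun r m => (map_smul g r m).trans (algebraMap_smul (X.presheaf.stalk x) r (g m)).symm }

theorem theta_ι {U : X.Opens} (x : X) (hx : x ∈ U) (e : Fin i → Γ(E, U)) :
    theta i E x hx (exteriorPower.ιMulti Γ(X, U) i (M := E.val.obj (op U)) e) = wg i E x hx e :=
  letI : Algebra Γ(X, U) (X.presheaf.stalk x) := (X.presheaf.germ U x hx).hom.toAlgebra
  letI : Module Γ(X, U) (E.presheaf.stalk x) := Module.compHom _ (X.presheaf.germ U x hx).hom
  letI : Module Γ(X, U) (Val i E x) := Module.compHom _ (X.presheaf.germ U x hx).hom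
  exteriorPower.alternatingMapLinearEquiv_apply_ιMulti _ _

theorem pred_theta (U : X.Opens) (w : ↥(⋀[Γ(X, U)]^i (E.val.obj (op U)))) :
    (pre i E).pred (fun x : U => theta i E x.1 x.2 w) := by
  have hw : w ∈ Submodule.span Γ(X, U) (Set.range (exteriorPower.ιMulti Γ(X, U) i (M := E.val.obj (op U)))) := by
    rw [exteriorPower.ιMulti_span]; trivial
  induction hw using Submodule.span_induction with
  | mem w hw =>
    obtain ⟨e, rfl⟩ := hw
    exact ⟨1, fun _ => 1, fun _ => e, fun x => by simp [theta_ι]⟩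
  | zero => rw [show (fun x : U => theta i E x.1 x.2 0) = 0 from funext fun _ => map_zero _]; exact pre_zero i E U
  | add a b _ _ ha hb =>
    rw [show (fun x : U => theta i E x.1 x.2 (a + b)) = (fun x : U => theta i E x.1 x.2 a) + fun x : U => theta i E x.1 x.2 b from
      funext fun _ => map_add _ a b]
    exact pre_add i E U _ _ ha hb
  | smul r a _ ha => simpa only [LinearMap.map_smulₛₗ] using pre_smul i E U r _ ha

/-- The sections given by wedges. -/
def psi (U : X.Opens) : ↥(⋀[Γ(X, U)]^i (E.val.obj (op U))) →ₗ[Γ(X, U)] Γ(ext i E, U) where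
  toFun w := ⟨fun x => theta i E x.1 x.2 w, fun x => ⟨U, x.2, 𝟙 U, pred_theta i E U w⟩⟩
  map_add' a b := Subtype.ext (funext fun _ => map_add _ a b)
  map_smul' r a := Subtype.ext (funext fun _ => LinearMap.map_smulₛₗ _ r a)

variable [Coh.IsQCoh E]

theorem exists_smul_eq_zero_of_prime {U : X.Opens} (hU : IsAffineOpen U) {w : ↥(⋀[Γ(X, U)]^i (E.val.obj (op U)))}
    (x : X) (hx : x ∈ U) (hw : theta i E x hx w = 0) :
    ∃ s : Γ(X, U), s ∉ (hU.primeIdealOf ⟨x, hx⟩).asIdeal ∧ s • w = 0 := by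
  letI : Algebra Γ(X, U) (X.presheaf.stalk x) := (X.presheaf.germ U x hx).hom.toAlgebra
  letI : Module Γ(X, U) (E.presheaf.stalk x) := Module.compHom _ (X.presheaf.germ U x hx).hom
  haveI : IsScalarTower Γ(X, U) (X.presheaf.stalk x) (E.presheaf.stalk x) :=
    IsScalarTower.of_algebraMap_smul fun _ _ => rfl
  letI : Module Γ(X, U) (Val i E x) := Module.compHom _ (X.presheaf.germ U x hx).hom
  haveI : IsScalarTower Γ(X, U) (X.presheaf.stalk x) (Val i E x) :=
    IsScalarTower.of_algebraMap_smul fun _ _ => rfl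
  let φ : (E.val.obj (op U)) →ₗ[Γ(X, U)] E.presheaf.stalk x :=
    { toFun := fun m => E.presheaf.germ U x hx m
      map_add' := map_add _
      map_smul' := QCohLoc.germ_smul' (M := E) hx }
  haveI := hU.isLocalization_stalk ⟨x, hx⟩
  haveI hloc := EGA43.QcohFP.isLocalizedModule_germ E hU hx φ fun _ => rfl
  let S := (hU.primeIdealOf ⟨x, hx⟩).asIdeal.primeCompl
  let g : ↥(⋀[Γ(X, U)]^i (E.val.obj (op U))) →ₗ[Γ(X, U)] Val i E x :=
    { toFun := theta i E x hx
      map_add' := map_add _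
      map_smul' := fun r m => (LinearMap.map_smulₛₗ _ r m).trans
        (algebraMap_smul (X.presheaf.stalk x) r (theta i E x hx m)) }
  haveI : IsLocalizedModule S g := (isLocalizedModule_iff_isBaseChange S (X.presheaf.stalk x) g).2
    (DR15.exteriorPower_isBaseChange ((isLocalizedModule_iff_isBaseChange S (X.presheaf.stalk x) φ).1 hloc) i g
      fun v => theta_ι i E x hx v)
  obtain ⟨s, hs⟩ := (IsLocalizedModule.eq_zero_iff S g).1 hw
  exact ⟨s.1, s.2, hs⟩

theorem exists_pow_smul_eq_zero {U : X.Opens} (hU : IsAffineOpen U) {w : ↥(⋀[Γ(X, U)]^i (E.val.obj (op U)))}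
    (g : Γ(X, U)) (h : ∀ (x : X) (hx : x ∈ U), x ∈ X.basicOpen g → theta i E x hx w = 0) :
    ∃ n : ℕ, g ^ n • w = 0 := by
  let I : Ideal Γ(X, U) := LinearMap.ker (LinearMap.toSpanSingleton Γ(X, U) _ w)
  have hg : g ∈ I.radical := by
    rw [Ideal.radical_eq_sInf, Submodule.mem_sInf]
    rintro p ⟨hle, hp⟩
    by_contra hgp
    let q : PrimeSpectrum Γ(X, U) := ⟨p, hp⟩
    have hxU : hU.fromSpec q ∈ U := hU.range_fromSpec.le ⟨q, rfl⟩
    have hxg : hU.fromSpec q ∈ X.basicOpen g := by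
      show q ∈ hU.fromSpec ⁻¹ᵁ X.basicOpen g
      rw [hU.fromSpec_preimage_basicOpen]
      exact hgp
    obtain ⟨s, hs, hsw⟩ := exists_smul_eq_zero_of_prime i E hU _ hxU (h _ hxU hxg)
    have hq : hU.primeIdealOf ⟨hU.fromSpec q, hxU⟩ = q :=
      hU.fromSpec.isOpenEmbedding.injective (hU.fromSpec_primeIdealOf _)
    rw [hq] at hs
    exact hs (hle hsw)
  obtain ⟨n, hn⟩ := hg
  exact ⟨n, hn⟩

theorem exists_frac {U : X.Opens} (hU : IsAffineOpen U) (h : Γ(X, U))
    {f : ∀ x : (X.basicOpen h), Val i E x.1} (hf : (pre i E).pred f) :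
    ∃ (n : ℕ) (w : ↥(⋀[Γ(X, U)]^i (E.val.obj (op U)))), ∀ x : (X.basicOpen h),
      X.presheaf.germ U x.1 (X.basicOpen_le h x.2) h ^ n • f x = theta i E x.1 (X.basicOpen_le h x.2) w := by
  classical
  let D := X.basicOpen h
  let le : D ≤ U := X.basicOpen_le h
  letI := (X.presheaf.map (homOfLE le).op).hom.toAlgebra
  letI := Module.compHom Γ(E, D) (X.presheaf.map (homOfLE le).op).hom
  let ρ : Γ(E, U) →ₗ[Γ(X, U)] Γ(E, D) :=
    { toFun := resM E le
      map_add' := map_add _
      map_smul' := resM_smul E _ }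
  haveI := EGA43.QcohFP.isLocalizedModule_res E hU h ρ fun _ => rfl
  haveI : IsLocalization.Away h Γ(X, D) := hU.isLocalization_basicOpen h
  have hE : ∀ (a : Γ(E, D)), ∃ (n : ℕ) (m : Γ(E, U)), ∀ (x : X) (hx : x ∈ D),
      X.presheaf.germ U x (le hx) h ^ n • E.presheaf.germ D x hx a = E.presheaf.germ U x (le hx) m := by
    intro a
    obtain ⟨⟨m, ⟨_, n, rfl⟩⟩, hm⟩ := IsLocalizedModule.surj (Submonoid.powers h) ρ a
    refine ⟨n, m, fun x hx => ?_⟩
    have hm' : X.presheaf.map (homOfLE le).op (h ^ n) • a = resM E le m := hm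
    have := congrArg (E.presheaf.germ D x hx) hm'
    rw [QCohLoc.germ_smul' (M := E) hx, TopCat.Presheaf.germ_res_apply, map_pow] at this
    exact this.trans (TopCat.Presheaf.germ_res_apply E.presheaf (homOfLE le) x hx m)
  have hA : ∀ (c : Γ(X, D)), ∃ (n : ℕ) (a : Γ(X, U)), ∀ (x : X) (hx : x ∈ D),
      X.presheaf.germ U x (le hx) h ^ n * X.presheaf.germ D x hx c = X.presheaf.germ U x (le hx) a := by
    intro c
    obtain ⟨⟨a, ⟨_, n, rfl⟩⟩, ha⟩ := IsLocalization.surj (Submonoid.powers h) c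
    refine ⟨n, a, fun x hx => ?_⟩
    have ha' : c * X.presheaf.map (homOfLE le).op (h ^ n) = X.presheaf.map (homOfLE le).op a := ha
    have := congrArg (X.presheaf.germ D x hx) ha'
    rw [map_mul, TopCat.Presheaf.germ_res_apply, TopCat.Presheaf.germ_res_apply, map_pow, mul_comm] at this
    exact this
  obtain ⟨N, c, e, hf⟩ := hf
  choose nA a ha using hA
  choose nE m hm using hE
  let n : Fin N → ℕ := fun k => nA (c k) + ∑ j, nE (e k j)
  refine ⟨∑ k, n k, ∑ k, (h ^ (∑ k, n k - n k) * a (c k)) •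
    exteriorPower.ιMulti Γ(X, U) i (M := E.val.obj (op U)) (fun j => m (e k j)), fun x => ?_⟩
  rw [hf x, Finset.smul_sum, map_sum]
  refine Finset.sum_congr rfl fun k _ => ?_
  rw [LinearMap.map_smulₛₗ, theta_ι, map_mul, map_pow, ← ha (c k) x.1 x.2]
  have h1 : wg i E x.1 (le x.2) (fun j => m (e k j)) =
      (X.presheaf.germ U x.1 (le x.2) h ^ ∑ j, nE (e k j)) • wg i E x.1 x.2 (e k) := by
    rw [← Finset.prod_pow_eq_pow_sum]
    refine Eq.trans ?_ (AlternatingMap.map_smul_univ _ _ _)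
    exact congrArg (exteriorPower.ιMulti _ i) (funext fun j => (hm (e k j) x.1 x.2).symm)
  rw [h1, smul_smul, smul_smul]
  congr 1
  have hle : n k ≤ ∑ k, n k := Finset.single_le_sum (fun _ _ => Nat.zero_le _) (Finset.mem_univ k)
  conv_lhs => rw [← Nat.sub_add_cancel hle]
  rw [pow_add, pow_add]
  ring

theorem exists_local_frac {U : X.Opens} (hU : IsAffineOpen U) (t : Γ(ext i E, U)) (x : X) (hx : x ∈ U) :
    ∃ (h : Γ(X, U)) (n : ℕ) (w : ↥(⋀[Γ(X, U)]^i (E.val.obj (op U)))), x ∈ X.basicOpen h ∧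
      ∀ (y : X) (hy : y ∈ U), y ∈ X.basicOpen h →
        X.presheaf.germ U y hy h ^ n • t.1 ⟨y, hy⟩ = theta i E y hy w := by
  obtain ⟨V, hxV, iV, pV⟩ := t.2 ⟨x, hx⟩
  obtain ⟨h, hle, hxh⟩ := hU.exists_basicOpen_le (V := V) ⟨x, hxV⟩ hx
  obtain ⟨n, w, hw⟩ := exists_frac i E hU h ((pre i E).res (homOfLE hle) _ pV)
  exact ⟨h, n, w, hxh, fun y hy hyh => hw ⟨y, hyh⟩⟩

theorem isUnit_germ {U : X.Opens} (g : Γ(X, U)) {x : X} (hx : x ∈ U) (hxg : x ∈ X.basicOpen g) :
    IsUnit (X.presheaf.germ U x hx g) := (X.mem_basicOpen g x hx).1 hxg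

/-- A section vanishing on a basic open is killed by a power. -/
theorem exists_pow_germ_smul_eq_zero {U : X.Opens} (hU : IsAffineOpen U) (t : Γ(ext i E, U)) (h : Γ(X, U))
    (ht : ∀ (y : X) (hy : y ∈ U), y ∈ X.basicOpen h → t.1 ⟨y, hy⟩ = 0) :
    ∃ m : ℕ, ∀ (y : X) (hy : y ∈ U), X.presheaf.germ U y hy h ^ m • t.1 ⟨y, hy⟩ = 0 := by
  classical
  choose g n w hg hw using fun x : U => exists_local_frac i E hU t x.1 x.2
  have hk : ∀ x : U, ∃ m : ℕ, (g x * h) ^ m • w x = 0 := fun x =>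
    exists_pow_smul_eq_zero i E hU _ fun y hy hyg => by
      rw [X.basicOpen_mul] at hyg
      rw [← hw x y hy hyg.1, ht y hy hyg.2, smul_zero]
  choose m hm using hk
  obtain ⟨s, hs⟩ := hU.isCompact.elim_finite_subcover (fun x : U => (X.basicOpen (g x) : Set X))
    (fun x => (X.basicOpen (g x)).isOpen) fun y hy => Set.mem_iUnion.2 ⟨⟨y, hy⟩, hg _⟩
  refine ⟨s.sup m, fun y hy => ?_⟩
  obtain ⟨x, hx, hyx⟩ := Set.mem_iUnion₂.1 (hs hy)
  have h1 : (X.presheaf.germ U y hy (g x) ^ (n x + m x) * X.presheaf.germ U y hy h ^ m x) • t.1 ⟨y, hy⟩ = 0 := by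
    rw [show X.presheaf.germ U y hy (g x) ^ (n x + m x) * X.presheaf.germ U y hy h ^ m x =
      X.presheaf.germ U y hy ((g x * h) ^ m x) * X.presheaf.germ U y hy (g x) ^ n x by
        rw [map_pow, map_mul, mul_pow, pow_add]; ring,
      mul_smul, hw x y hy hyx, ← LinearMap.map_smulₛₗ, hm x, map_zero]
  rw [mul_smul, (((isUnit_germ (g x) hy hyx).pow _).smul_eq_zero)] at h1
  rw [show s.sup m = (s.sup m - m x) + m x from (Nat.sub_add_cancel (Finset.le_sup hx)).symm, pow_add,
    mul_smul, h1, smul_zero]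

theorem bijective_psi {U : X.Opens} (hU : IsAffineOpen U) : Function.Bijective (psi i E U) := by
  classical
  refine ⟨(injective_iff_map_eq_zero _).2 fun w hw => ?_, fun t => ?_⟩
  · obtain ⟨n, hn⟩ := exists_pow_smul_eq_zero i E hU (1 : Γ(X, U)) (w := w) fun x hx _ =>
      congrFun (congrArg Subtype.val hw) ⟨x, hx⟩
    rwa [one_pow, one_smul] at hn
  · let I : Submodule Γ(X, U) Γ(X, U) :=
      (LinearMap.range (psi i E U)).comap (LinearMap.toSpanSingleton Γ(X, U) _ t)
    suffices h1 : (1 : Γ(X, U)) ∈ I by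
      obtain ⟨w, hw⟩ := h1
      exact ⟨w, hw.trans (one_smul _ _)⟩
    suffices hI : (I : Ideal Γ(X, U)) = ⊤ by rw [hI]; trivial
    by_contra hne
    obtain ⟨p, hp, hle⟩ := Ideal.exists_le_maximal (I : Ideal Γ(X, U)) hne
    let q : PrimeSpectrum Γ(X, U) := ⟨p, hp.isPrime⟩
    have hxU : hU.fromSpec q ∈ U := hU.range_fromSpec.le ⟨q, rfl⟩
    obtain ⟨h, n, w, hxh, hw⟩ := exists_local_frac i E hU t _ hxU
    have hhp : h ∉ p := by
      have : q ∈ hU.fromSpec ⁻¹ᵁ X.basicOpen h := hxh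
      rw [hU.fromSpec_preimage_basicOpen] at this
      exact this
    obtain ⟨m, hm⟩ := exists_pow_germ_smul_eq_zero i E hU ((h ^ n) • t - psi i E U w) h fun y hy hyh => by
      show X.presheaf.germ U y hy (h ^ n) • t.1 ⟨y, hy⟩ - theta i E y hy w = 0
      rw [map_pow, hw y hy hyh, sub_self]
    have hmem : h ^ (m + n) ∈ I := ⟨h ^ m • w, Subtype.ext (funext fun y => by
      show theta i E y.1 y.2 (h ^ m • w) = X.presheaf.germ U y.1 y.2 (h ^ (m + n)) • t.1 y
      have hy : X.presheaf.germ U y.1 y.2 h ^ m •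
          (X.presheaf.germ U y.1 y.2 (h ^ n) • t.1 y - theta i E y.1 y.2 w) = 0 := hm y.1 y.2
      rw [smul_sub, sub_eq_zero] at hy
      rw [LinearMap.map_smulₛₗ, map_pow, ← hy, smul_smul, pow_add, map_mul, map_pow, map_pow])⟩
    exact hhp (hp.isPrime.mem_of_pow_mem _ (hle hmem))

theorem localizesOn {U : X.Opens} (hU : IsAffineOpen U) : LocalizesOn (ext i E) U where
  exists_pow_smul h s := by
    obtain ⟨v, hv⟩ := (bijective_psi i E (hU.basicOpen h)).2 s
    obtain ⟨n, w, hw⟩ := exists_frac i E hU h (pred_theta i E _ v)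
    refine ⟨n, psi i E U w, Subtype.ext (funext fun y => ?_)⟩
    show theta i E y.1 _ w = X.presheaf.germ _ y.1 y.2 (X.presheaf.map (homOfLE (X.basicOpen_le h)).op (h ^ n)) • s.1 y
    rw [TopCat.Presheaf.germ_res_apply, map_pow, ← hv]
    exact (hw y).symm
  exists_pow_smul_eq_zero h t ht := by
    obtain ⟨m, hm⟩ := exists_pow_germ_smul_eq_zero i E hU t h fun y hy hyh =>
      congrFun (congrArg Subtype.val ht) ⟨y, hyh⟩
    exact ⟨m, Subtype.ext (funext fun y => by
      show X.presheaf.germ U y.1 y.2 (h ^ m) • t.1 y = 0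
      rw [map_pow]; exact hm y.1 y.2)⟩

theorem isQCoh_ext : Coh.IsQCoh (ext i E) :=
  (isQCoh_iff_localizesOn _).2 fun _ hU => localizesOn i E hU

theorem isExtPow_ext : ExtPow.IsExtPow i E (ext i E) := by
  refine ⟨fun U => (LinearEquiv.ofBijective _ (bijective_psi i E U.2)).symm, fun U V h e => ?_⟩
  simp only [LinearEquiv.symm_symm, LinearEquiv.ofBijective_apply]
  refine Subtype.ext (funext fun y => ?_)
  exact (theta_ι i E y.1 (h y.2) e).trans
    ((wg_res i E h y.1 y.2 e).symm.trans (theta_ι i E y.1 y.2 fun j => resM E h (e j)).symm)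

end Groth.Agent.ExtPowEx28

namespace Groth.Agent.ExtPowEx28

/-- Exterior powers of finite locally free modules exist and are finite locally free. -/
theorem exists_isExtPow {X : Scheme.{u}} {E : X.Modules} (hE : FlatMod.IsFinLocFree E) (i : ℕ) :
    ∃ L : X.Modules, FlatMod.IsFinLocFree L ∧ ExtPow.IsExtPow i E L := by
  haveI := CAlgH3.LocFreeFactor.isQCoh_of_finLocFree hE
  haveI := isQCoh_ext i E
  refine ⟨ext i E, fun y => ?_, isExtPow_ext i E⟩
  obtain ⟨W, r, hyW, ⟨e⟩⟩ := hE y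
  obtain ⟨U, hU, hyU, hle⟩ := exists_isAffineOpen_mem_and_subset (x := y) (U := W) hyW
  obtain ⟨b⟩ := Props12.exists_basis_sections e (show U ≤ W from hle)
  haveI : Module.Free Γ(X, U) (E.val.obj (op U)) := .of_basis b
  haveI : Module.Finite Γ(X, U) (E.val.obj (op U)) := Module.Finite.of_basis b
  let q := LinearEquiv.ofBijective _ (bijective_psi i E hU)
  haveI : Module.Finite Γ(X, U) Γ(ext i E, U) := Module.Finite.equiv q
  haveI : Module.Projective Γ(X, U) Γ(ext i E, U) := Module.Projective.of_equiv q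
  obtain ⟨W', m, hW', he⟩ := CohExch.exists_free_nhd_of_sections (ext i E) hU hyU
  exact ⟨W', m, hW', he⟩

end Groth.Agent.ExtPowEx28

end
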