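import Groth.Agent.ExtPowEx28.Basic
import Groth.Agent.KvbLam28.Basic
import Groth.Agent.GrassLib.PBundle.ExtBasis
import Groth.Agent.PicLib.PullbackGen
import Groth.Agent.DCat.PullPerf

/-!
# Inverse images commute with exterior powers
-/

set_option autoImplicit false
set_option linter.style.haveILetI false
set_option backward.isDefEq.respectTransparency false

universe u

open CategoryTheory CategoryTheory.Limits AlgebraicGeometry TopologicalSpace Opposite
open Groth.Agent.Coherent Groth.Agent.PicLib Groth.Agent.GrassLib.PBundle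

noncomputable section

namespace Groth.Agent.ExtPowEx28

variable {X Y : Scheme.{u}} (σ : Y ⟶ X) (i : ℕ) (E : X.Modules)

/-- Wedges of pulled back sections. -/
def pullAlt (U : X.Opens) :
    (E.val.obj (op U)) [⋀^Fin i]→ₗ[Γ(X, U)]
      (((Scheme.Modules.pushforward σ).obj (ext i ((Scheme.Modules.pullback σ).obj E))).val.obj (op U)) :=
  let E' := (Scheme.Modules.pullback σ).obj E
  let W := σ ⁻¹ᵁ U
  letI : Algebra Γ(X, U) Γ(Y, W) := (σ.app U).hom.toAlgebra
  letI : Module Γ(X, U) (E'.val.obj (op W)) := Module.compHom _ (σ.app U).hom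
  haveI : IsScalarTower Γ(X, U) Γ(Y, W) (E'.val.obj (op W)) := IsScalarTower.of_algebraMap_smul fun _ _ => rfl
  let p : (E.val.obj (op U)) →ₗ[Γ(X, U)] (E'.val.obj (op W)) :=
    { toFun := fun m => pullSec σ (L := E) (U := U) m
      map_add' := fun a b => map_add (((Scheme.Modules.pullbackPushforwardAdjunction σ).unit.app E).app U).hom a b
      map_smul' := fun r m => pullSec_smul σ r m }
  let a : (E'.val.obj (op W)) [⋀^Fin i]→ₗ[Γ(X, U)] ↥(⋀[Γ(Y, W)]^i (E'.val.obj (op W))) :=
    { (exteriorPower.ιMulti Γ(Y, W) i).toMultilinearMap.restrictScalars Γ(X, U) with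
      map_eq_zero_of_eq' := (exteriorPower.ιMulti Γ(Y, W) i).map_eq_zero_of_eq' }
  let g : ↥(⋀[Γ(Y, W)]^i (E'.val.obj (op W))) →ₗ[Γ(X, U)]
      (((Scheme.Modules.pushforward σ).obj (ext i E')).val.obj (op U)) :=
    { toFun := fun w => psi i E' W w
      map_add' := map_add (psi i E' W)
      map_smul' := fun r w => by
        show psi i E' W (r • w) = (σ.app U r) • psi i E' W w
        rw [← map_smul (psi i E' W)]
        exact congrArg _ (algebraMap_smul Γ(Y, W) r w).symm }
  g.compAlternatingMap (a.compLinearMap p)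

theorem pullAlt_apply (U : X.Opens) (v : Fin i → Γ(E, U)) (y : ↥(σ ⁻¹ᵁ U)) :
    (show Γ(ext i ((Scheme.Modules.pullback σ).obj E), σ ⁻¹ᵁ U) from pullAlt σ i E U v).1 y =
      wg i ((Scheme.Modules.pullback σ).obj E) y.1 y.2 fun j => pullSec σ (v j) :=
  theta_ι i _ y.1 y.2 fun j => pullSec σ (v j)

/-- The inverse image of an exterior power is an exterior power. -/
theorem nonempty_pullback_ext (hE : FlatMod.IsFinLocFree E) {L : X.Modules}
    (hL : ExtPow.IsExtPow i E L) :
    Nonempty ((Scheme.Modules.pullback σ).obj L ≅ ext i ((Scheme.Modules.pullback σ).obj E)) := by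
  classical
  let E' := (Scheme.Modules.pullback σ).obj E
  have hE' : FlatMod.IsFinLocFree E' := DCat.PullPerf.isFinLocFree_pullback σ hE
  haveI : Coh.IsQCoh E' := CAlgH3.LocFreeFactor.isQCoh_of_finLocFree hE'
  obtain ⟨φ, hφ⟩ := hL
  let φ' : ∀ U : Y.affineOpens, ((ext i E').val.obj (op U.1)) ≃ₗ[Γ(Y, U.1)] ↥(⋀[Γ(Y, U.1)]^i (E'.val.obj (op U.1))) :=
    fun U => (LinearEquiv.ofBijective _ (bijective_psi i E' U.2)).symm
  have hw' : ∀ (U : Y.affineOpens) (v : Fin i → Γ(E', U.1)),
      (φ' U).symm (exteriorPower.ιMulti Γ(Y, U.1) i (M := E'.val.obj (op U.1)) v) =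
        psi i E' U.1 (exteriorPower.ιMulti Γ(Y, U.1) i (M := E'.val.obj (op U.1)) v) := fun U v => rfl
  have hφ' : ∀ (U V : Y.affineOpens) (h : V.1 ≤ U.1) (e : Fin i → E'.val.obj (op U.1)),
      (ext i E').val.map (homOfLE h).op ((φ' U).symm (exteriorPower.ιMulti _ i e)) =
        (φ' V).symm (exteriorPower.ιMulti _ i (fun j => E'.val.map (homOfLE h).op (e j))) := fun U V h e =>
    Subtype.ext (funext fun y => (theta_ι i E' y.1 (h y.2) e).trans
      ((wg_res i E' h y.1 y.2 e).symm.trans (theta_ι i E' y.1 y.2 fun j => resM E' h (e j)).symm))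
  obtain ⟨f, hf⟩ := exists_hom_of_alt (V := E) (q := i) (L := L) φ hφ
    (M := (Scheme.Modules.pushforward σ).obj (ext i E')) (fun A => pullAlt σ i E A.1) fun A B h v => by
      refine Subtype.ext (funext fun y => ?_)
      refine (pullAlt_apply σ i E A.1 v ⟨y.1, h y.2⟩).trans ?_
      refine Eq.trans ?_ (pullAlt_apply σ i E B.1 (fun j => resM E h (v j)) y).symm
      refine Eq.trans ((wg_res i E' (σ.preimage_mono h) y.1 y.2 fun j => pullSec σ (v j)).symm) ?_
      exact congrArg (wg i E' y.1 y.2) (funext fun j => PicLib.resM_pullSec σ h (v j))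
  let g := ((Scheme.Modules.pullbackPushforwardAdjunction σ).homEquiv L (ext i E')).symm f
  haveI : IsIso g := InjMod14.Kosz.isIso_of_affine_nbhds g fun W y hy => by
    obtain ⟨U₁, n, b₁, hx₁, hb₁⟩ := PicLib.exists_isBasisOn hE (σ y)
    obtain ⟨U, hU, hxU, hle⟩ := Opens.isBasis_iff_nbhd.1 X.isBasis_affineOpens hx₁
    let b : ULift.{u} (Fin n) → Γ(E, U) := fun k => resM E hle (b₁ k)
    have hb : IsBasisOn E U b := FinCovLib29.isBasisOn_restrict hb₁ hle
    have hL := (isBasisOn_wedgeFamily φ hφ hb hU (q := i)).pull σ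
    obtain ⟨V, hV, hyV, hVle⟩ := Opens.isBasis_iff_nbhd.1 Y.isBasis_affineOpens
      (show y ∈ W ⊓ σ ⁻¹ᵁ U from ⟨hy, hxU⟩)
    have hVU : V ≤ σ ⁻¹ᵁ U := hVle.trans inf_le_right
    let b' : ULift.{u} (Fin n) → Γ(E', V) := fun k => resM E' hVU (pullSec σ (b k))
    have hb' : IsBasisOn E' V b' := FinCovLib29.isBasisOn_restrict (hb.pull σ) hVU
    have hR := isBasisOn_wedgeFamily φ' hφ' hb' hV (q := i)
    refine ⟨⟨V, hV⟩, hyV, hVle.trans inf_le_left, ?_⟩
    have key : ∀ s, g.app V (resM _ hVU (pullSec σ (wedgeFamily φ b hU s))) = wedgeFamily φ' b' hV s := by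
      intro s
      rw [app_resM, PicLib.homEquiv_symm_app_pullSec]
      refine (congrArg (resM (ext i E') hVU) (hf ⟨U, hU⟩ _)).trans ?_
      refine Subtype.ext (funext fun z => ?_)
      refine (pullAlt_apply σ i E U _ ⟨z.1, hVU z.2⟩).trans ?_
      refine Eq.trans ((wg_res i E' hVU z.1 z.2 _).symm) ?_
      exact (theta_ι i E' z.1 z.2 _).symm
    let c₁ := fun c : ULift.{u} (Set.powersetCard (Fin n) i) → Γ(Y, V) =>
      ∑ s, c s • resM ((Scheme.Modules.pullback σ).obj L) hVU (pullSec σ (wedgeFamily φ b hU s))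
    have h₁ : Function.Bijective c₁ := hL hVU
    have h₂ : Function.Bijective (g.app V ∘ c₁) := by
      have h := hR (le_refl V)
      convert h using 1
      funext c
      show g.app V (∑ s, c s • _) = _
      rw [map_sum]
      refine Finset.sum_congr rfl fun s _ => ?_
      rw [Scheme.Modules.Hom.app_smul, key, resM_self]
    exact (Function.Bijective.of_comp_iff _ h₁).1 h₂
  exact ⟨asIso g⟩

theorem isExtPow_of_iso {i : ℕ} {E L L' : X.Modules} (e : L ≅ L') (h : ExtPow.IsExtPow i E L) :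
    ExtPow.IsExtPow i E L' := by
  obtain ⟨φ, hφ⟩ := h
  let q : ∀ U : X.affineOpens, (L'.val.obj (op U.1)) ≃ₗ[Γ(X, U.1)] (L.val.obj (op U.1)) := fun U =>
    { toFun := fun x => e.inv.app U.1 x
      invFun := fun x => e.hom.app U.1 x
      left_inv := fun x => congrArg (fun ψ : L' ⟶ L' => ψ.app U.1 x) e.inv_hom_id
      right_inv := fun x => congrArg (fun ψ : L ⟶ L => ψ.app U.1 x) e.hom_inv_id
      map_add' := fun a b => map_add (e.inv.app U.1).hom a b
      map_smul' := fun r a => Scheme.Modules.Hom.app_smul e.inv r a }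
  refine ⟨fun U => (q U).trans (φ U), fun U V h v => ?_⟩
  show L'.val.map (homOfLE h).op (e.hom.app U.1 ((φ U).symm _)) = e.hom.app V.1 ((φ V).symm _)
  rw [← hφ U V h v]
  exact (app_resM e.hom h _).symm

/-- Inverse images of exterior powers of finite locally free modules. -/
theorem isExtPow_pullback_vb {i : ℕ} {E L : X.Modules} (hE : FlatMod.IsFinLocFree E)
    (hL : ExtPow.IsExtPow i E L) :
    ExtPow.IsExtPow i ((Scheme.Modules.pullback σ).obj E) ((Scheme.Modules.pullback σ).obj L) := by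
  haveI : Coh.IsQCoh ((Scheme.Modules.pullback σ).obj E) :=
    CAlgH3.LocFreeFactor.isQCoh_of_finLocFree (DCat.PullPerf.isFinLocFree_pullback σ hE)
  obtain ⟨e⟩ := nonempty_pullback_ext σ i E hE hL
  exact isExtPow_of_iso e.symm (isExtPow_ext i _)

end Groth.Agent.ExtPowEx28

end
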